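import Groth.Prelude.Def_Pi1X
import Mathlib.CategoryTheory.Galois.EssSurj
import Mathlib.CategoryTheory.Galois.Full
import Mathlib.CategoryTheory.Galois.IsFundamentalgroup

/-!
Galois categories: points fixed by the fundamental group, homomorphisms induced by exact functors.
-/

set_option autoImplicit false
set_option linter.style.haveILetI false
set_option backward.defeqAttrib.useBackward true
set_option backward.isDefEq.respectTransparency false

universe u v w

open CategoryTheory CategoryTheory.Limits CategoryTheory.PreGaloisCategory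

namespace Groth.Agent.GaloisHom

section One

variable {D : Type u} [Category.{v} D] [GaloisCategory D] (F : D ⥤ FintypeCat.{w}) [FiberFunctor F]

theorem isTerminal_top : Nonempty (IsTerminal (F.obj (⊤_ D))) :=
  ⟨terminalIsTerminal.isTerminalObj F _⟩

theorem subsingleton_top : Subsingleton (F.obj (⊤_ D)) := ⟨fun a b => by
  obtain ⟨h⟩ := isTerminal_top F
  let c : F.obj (⊤_ D) → (F.obj (⊤_ D) ⟶ F.obj (⊤_ D)) := fun z => FintypeCat.homMk fun _ => z
  exact ConcreteCategory.congr_hom (h.hom_ext (c a) (c b)) a⟩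

theorem nonempty_top : Nonempty (F.obj (⊤_ D)) := by
  obtain ⟨h⟩ := isTerminal_top F
  exact ⟨h.from (FintypeCat.of PUnit.{w + 1}) PUnit.unit⟩

/-- A pointed connected object maps to any pointed object with a larger stabiliser. -/
theorem exists_map_of_stabilizer_le {X Y : D} [IsConnected X] (a : F.obj X) (b : F.obj Y)
    (h : MulAction.stabilizer (Aut F) a ≤ MulAction.stabilizer (Aut F) b) :
    ∃ f : X ⟶ Y, F.map f a = b := by
  choose σ hσ using fun x : F.obj X => MulAction.exists_smul_eq (Aut F) a x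
  have key : ∀ τ : Aut F, σ (τ • a) • b = τ • b := fun τ => by
    have hmem : τ⁻¹ * σ (τ • a) ∈ MulAction.stabilizer (Aut F) a := by
      rw [MulAction.mem_stabilizer_iff, mul_smul, hσ, inv_smul_smul]
    have := h hmem
    rwa [MulAction.mem_stabilizer_iff, mul_smul, inv_smul_eq_iff] at this
  let g : (functorToAction F).obj X ⟶ (functorToAction F).obj Y :=
    { hom := FintypeCat.homMk fun x => σ x • b
      comm := fun τ => by
        apply ConcreteCategory.hom_ext
        intro x
        change σ (τ • x) • b = τ • (σ x • b)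
        conv_lhs => rw [← hσ x, ← mul_smul, key]
        rw [mul_smul] }
  obtain ⟨f, hf⟩ := (functorToAction F).map_surjective g
  refine ⟨f, ?_⟩
  have e : F.map f a = g.hom a := by rw [← hf]; rfl
  rw [e]
  change σ a • b = b
  simpa using key 1

/-- A fixed point gives a section. -/
theorem exists_section {Y : D} (y : F.obj Y) (h : ∀ σ : Aut F, σ • y = y) :
    ∃ s : ⊤_ D ⟶ Y, ∀ t : F.obj (⊤_ D), F.map s t = y := by
  let g : (functorToAction F).obj (⊤_ D) ⟶ (functorToAction F).obj Y :=
    { hom := FintypeCat.homMk fun _ => y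
      comm := fun σ => by
        apply ConcreteCategory.hom_ext
        intro z
        exact (h σ).symm }
  obtain ⟨f, hf⟩ := (functorToAction F).map_surjective g
  exact ⟨f, fun t => by rw [← functorToAction_map, hf]; rfl⟩

theorem smul_section {Y : D} (s : ⊤_ D ⟶ Y) (t : F.obj (⊤_ D)) (σ : Aut F) : σ • F.map s t = F.map s t := by
  haveI := subsingleton_top F
  rw [mulAction_naturality, Subsingleton.elim (σ • t) t]

theorem smul_eq_self_of_iso_coprod {Y : D} {n : ℕ} (e : Y ≅ ∐ fun _ : Fin n => ⊤_ D) (σ : Aut F) (y : F.obj Y) :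
    σ • y = y := by
  have hinj : Function.Injective (F.map e.hom) := fun a b hab => by
    have := congrArg (F.map e.inv) hab
    simpa [← FintypeCat.comp_apply, ← F.map_comp] using this
  apply hinj
  rw [← mulAction_naturality]
  have hz : σ.hom.app (∐ fun _ : Fin n => ⊤_ D) = 𝟙 _ := by
    refine Cofan.IsColimit.hom_ext
      (isColimitCofanMkObjOfIsColimit F _ _ (coproductIsCoproduct fun _ : Fin n => ⊤_ D)) _ _ fun i => ?_
    obtain ⟨h⟩ := isTerminal_top F
    change F.map (Sigma.ι _ i) ≫ σ.hom.app _ = F.map (Sigma.ι _ i) ≫ 𝟙 _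
    rw [σ.hom.naturality, h.hom_ext (σ.hom.app (⊤_ D)) (𝟙 _), Category.id_comp, Category.comp_id]
  exact ConcreteCategory.congr_hom hz _

/-- An object on whose fibre the fundamental group acts trivially is a coproduct of copies of the final object. -/
theorem exists_coprod_iso (Y : D) (hY : ∀ (σ : Aut F) (y : F.obj Y), σ • y = y) :
    ∃ n : ℕ, Nonempty (Y ≅ ∐ fun _ : Fin n => ⊤_ D) := by
  classical
  have := subsingleton_top F
  obtain ⟨pt⟩ := nonempty_top F
  choose f hf using fun y : F.obj Y => exists_section F y fun σ => hY σ y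
  have : Fintype (F.obj Y) := Fintype.ofFinite _
  let n := Fintype.card (F.obj Y)
  let e : Fin n ≃ F.obj Y := (Fintype.equivFin _).symm
  let φ : (∐ fun _ : Fin n => ⊤_ D) ⟶ Y := Sigma.desc fun i => f (e i)
  have hsurj : ∀ z : F.obj (∐ fun _ : Fin n => ⊤_ D), ∃ i, F.map (Sigma.ι (fun _ : Fin n => ⊤_ D) i) pt = z := by
    intro z
    obtain ⟨⟨i⟩, a, rfl⟩ := Limits.FintypeCat.jointly_surjective _ _
      (isColimitOfPreserves F (coproductIsCoproduct fun _ : Fin n => ⊤_ D)) z
    exact ⟨i, congrArg (F.map (Sigma.ι (fun _ : Fin n => ⊤_ D) i)) (Subsingleton.elim _ _)⟩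
  have hφ : ∀ i, F.map φ (F.map (Sigma.ι (fun _ : Fin n => ⊤_ D) i) pt) = e i := fun i => by
    rw [← ConcreteCategory.comp_apply, ← F.map_comp, Sigma.ι_desc, hf]
  have hbij : Function.Bijective (F.map φ) := by
    refine ⟨fun a b hab => ?_, fun y => ⟨_, (hφ (e.symm y)).trans (e.apply_symm_apply y)⟩⟩
    obtain ⟨i, rfl⟩ := hsurj a
    obtain ⟨j, rfl⟩ := hsurj b
    rw [hφ, hφ] at hab
    rw [e.injective hab]
  have : IsIso (F.map φ) := (ConcreteCategory.isIso_iff_bijective _).2 hbij
  have : IsIso φ := isIso_of_reflects_iso φ F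
  exact ⟨n, ⟨(asIso φ).symm⟩⟩

/-- Every point lies in a connected subobject, with the same stabiliser. -/
theorem exists_component {Y : D} (y : F.obj Y) :
    ∃ (Z : D) (i : Z ⟶ Y) (z : F.obj Z), Mono i ∧ IsConnected Z ∧ F.map i z = y ∧
      MulAction.stabilizer (Aut F) z = MulAction.stabilizer (Aut F) y := by
  obtain ⟨Z, i, z, hz, hc, hm⟩ := fiber_in_connected_component F Y y
  haveI := hm
  have hinj : Function.Injective (F.map i) := (ConcreteCategory.mono_iff_injective_of_preservesPullback _).1 inferInstance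
  refine ⟨Z, i, z, hm, hc, hz, SetLike.ext fun σ => ?_⟩
  rw [MulAction.mem_stabilizer_iff, MulAction.mem_stabilizer_iff, ← hz, mulAction_naturality]
  exact ⟨fun h => by rw [h], fun h => hinj h⟩

/-- Every open subgroup of the fundamental group is the stabiliser of a point of a connected object. -/
theorem exists_connected_stabilizer_eq (U : OpenSubgroup (Aut F)) :
    ∃ (X : D) (a : F.obj X), IsConnected X ∧ MulAction.stabilizer (Aut F) a = U.toSubgroup := by
  let e := autEquivAutWhiskerRight F (Functor.FullyFaithful.ofFullyFaithful FintypeCat.uSwitch.{w, u})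
  haveI : FiberFunctor (F ⋙ FintypeCat.uSwitch.{w, u}) := inferInstance
  let U' : OpenSubgroup (Aut (F ⋙ FintypeCat.uSwitch.{w, u})) :=
    U.comap e.symm.toMonoidHom e.symm.continuous_toFun
  obtain ⟨X, ⟨i⟩⟩ := exists_lift_of_quotient_openSubgroup U'
  let q : Aut (F ⋙ FintypeCat.uSwitch.{w, u}) ⧸ U'.toSubgroup := QuotientGroup.mk 1
  let a' : (F ⋙ FintypeCat.uSwitch.{w, u}).obj X := i.inv.hom q
  have hinj : Function.Injective i.inv.hom := fun x y hxy => by
    have := congrArg i.hom.hom hxy
    simpa [← FintypeCat.comp_apply, ← Action.comp_hom] using this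
  have hst : ∀ σ, σ • a' = a' ↔ σ ∈ U'.toSubgroup := fun σ => by
    have h1 : σ • a' = i.inv.hom (QuotientGroup.mk σ) := by
      have := ConcreteCategory.congr_hom (i.inv.comm σ) q
      refine this.symm.trans (congrArg i.inv.hom ?_)
      show (QuotientGroup.mk (σ * 1) : Aut (F ⋙ FintypeCat.uSwitch.{w, u}) ⧸ U'.toSubgroup) = QuotientGroup.mk σ
      rw [mul_one]
    rw [h1]
    refine ⟨fun h => ?_, fun h => congrArg i.inv.hom ?_⟩
    · have h2 := QuotientGroup.eq.1 (hinj h)
      simpa using h2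
    · exact QuotientGroup.eq.2 (by simpa using h)
  let a : F.obj X := (F.obj X).uSwitchEquiv a'
  have key : ∀ σ : Aut F, σ • a = a ↔ σ ∈ U.toSubgroup := fun σ => by
    have h1 : σ • a = (F.obj X).uSwitchEquiv ((e σ) • a') := FintypeCat.uSwitchEquiv_naturality (σ.hom.app X) a'
    rw [h1, Equiv.apply_eq_iff_eq, hst]
    show e.symm (e σ) ∈ U.toSubgroup ↔ _
    rw [ContinuousMulEquiv.symm_apply_apply]
  obtain ⟨Z, -, z, -, hZ, -, hz⟩ := exists_component F a
  exact ⟨Z, z, hZ, hz.trans (SetLike.ext fun σ => MulAction.mem_stabilizer_iff.trans (key σ))⟩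

/-- A closed subgroup is cut out by stabilisers of points of connected objects. -/
theorem exists_stabilizer_separating (R : Subgroup (Aut F)) (hR : IsClosed (R : Set (Aut F))) {k : Aut F}
    (hk : k ∉ R) : ∃ (X : D) (a : F.obj X), IsConnected X ∧ R ≤ MulAction.stabilizer (Aut F) a ∧ k • a ≠ a := by
  have hW : {σ : Aut F | k * σ ∉ R} ∈ nhds (1 : Aut F) :=
    (hR.isOpen_compl.preimage (continuous_const_mul k)).mem_nhds (by simpa using hk)
  obtain ⟨A, -, hA⟩ := (nhds_one_has_basis_stabilizers F).mem_iff.1 hW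
  let N := MulAction.stabilizer (Aut F) A.pt
  haveI : N.Normal := stabilizer_normal_of_isGalois F A.obj A.pt
  have hN : IsOpen (N : Set (Aut F)) := stabilizer_isOpen (Aut F) A.pt
  let U : OpenSubgroup (Aut F) := ⟨R ⊔ N, Subgroup.isOpen_mono le_sup_right hN⟩
  obtain ⟨X, a, hX, ha⟩ := exists_connected_stabilizer_eq F U
  refine ⟨X, a, hX, ha ▸ le_sup_left, fun h => ?_⟩
  have hkU : k ∈ R ⊔ N := by
    rw [← MulAction.mem_stabilizer_iff, ha] at h
    exact h
  obtain ⟨r, hr, n, hn, rfl⟩ := Subgroup.mem_sup_of_normal_right.1 hkU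
  exact hA (N.inv_mem hn) (by simpa using hr)

theorem exists_stabilizer_subset {W : Set (Aut F)} (hW : W ∈ nhds (1 : Aut F)) :
    ∃ (X : D) (a : F.obj X), IsConnected X ∧ (MulAction.stabilizer (Aut F) a : Set (Aut F)) ⊆ W := by
  obtain ⟨A, -, hA⟩ := (nhds_one_has_basis_stabilizers F).mem_iff.1 hW
  exact ⟨A.obj, A.pt, inferInstance, hA⟩

theorem eq_one_of_forall_connected {σ : Aut F}
    (h : ∀ (X : D) (a : F.obj X), IsConnected X → σ • a = a) : σ = 1 := by
  refine Iso.ext (NatTrans.ext (funext fun X => ?_))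
  ext x
  obtain ⟨Z, i, z, -, hZ, hz, -⟩ := exists_component F x
  show σ • x = x
  rw [← hz, mulAction_naturality, h Z z hZ]

end One

section Hom

variable {C C' : Type u} [Category.{v} C] [Category.{v} C'] [GaloisCategory C] [GaloisCategory C']
  (H : C ⥤ C') (F' : C' ⥤ FintypeCat.{w}) [FiberFunctor F'] [FiberFunctor (H ⋙ F')]

theorem smul_autWhisker (σ : Aut F') {X : C} (x : (H ⋙ F').obj X) :
    Pi1X.autWhisker H F' σ • x = (σ • (show F'.obj (H.obj X) from x) : F'.obj (H.obj X)) := rfl

omit [GaloisCategory C] [GaloisCategory C'] [FiberFunctor F'] [FiberFunctor (H ⋙ F')] in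
theorem continuous_autWhisker : Continuous (Pi1X.autWhisker H F') := by
  rw [(autEmbedding_isClosedEmbedding _).isInducing.continuous_iff, continuous_pi_iff]
  intro X
  exact (continuous_apply (H.obj X)).comp (autEmbedding_isClosedEmbedding F').continuous

theorem isClosed_range : IsClosed ((Pi1X.autWhisker H F').range : Set (Aut (H ⋙ F'))) :=
  (isCompact_range (continuous_autWhisker H F')).isClosed

theorem range_le_stabilizer_iff (X : C) (a : (H ⋙ F').obj X) :
    (Pi1X.autWhisker H F').range ≤ MulAction.stabilizer (Aut (H ⋙ F')) a ↔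
      ∃ s : ⊤_ C' ⟶ H.obj X, ∀ t : F'.obj (⊤_ C'), F'.map s t = a := by
  constructor
  · intro h
    exact exists_section F' (show F'.obj (H.obj X) from a) fun σ => h ⟨σ, rfl⟩
  · rintro ⟨s, hs⟩ _ ⟨σ, rfl⟩
    obtain ⟨t⟩ := nonempty_top F'
    show Pi1X.autWhisker H F' σ • a = a
    rw [smul_autWhisker, ← hs t]
    exact smul_section F' s t σ

theorem trivial_iff (X : C) :
    (∀ (σ : Aut F') (x : (H ⋙ F').obj X), Pi1X.autWhisker H F' σ • x = x) ↔
      ∃ n : ℕ, Nonempty (H.obj X ≅ ∐ fun _ : Fin n => ⊤_ C') :=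
  ⟨fun h => exists_coprod_iso F' _ h, fun ⟨_, ⟨e⟩⟩ σ x => smul_eq_self_of_iso_coprod F' e σ x⟩

theorem normalClosure_range_le_stabilizer_iff (X : C) [IsConnected X] (a : (H ⋙ F').obj X) :
    Subgroup.normalClosure ((Pi1X.autWhisker H F').range : Set (Aut (H ⋙ F'))) ≤ MulAction.stabilizer (Aut (H ⋙ F')) a ↔
      ∃ n : ℕ, Nonempty (H.obj X ≅ ∐ fun _ : Fin n => ⊤_ C') := by
  rw [← trivial_iff H F' X]
  constructor
  · intro h σ x
    obtain ⟨τ, rfl⟩ := MulAction.exists_smul_eq (Aut (H ⋙ F')) a x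
    have h1 : τ⁻¹ * Pi1X.autWhisker H F' σ * τ ∈ MulAction.stabilizer (Aut (H ⋙ F')) a := h (by
      simpa using Subgroup.Normal.conj_mem Subgroup.normalClosure_normal _
        (Subgroup.subset_normalClosure (show Pi1X.autWhisker H F' σ ∈
          ((Pi1X.autWhisker H F').range : Set (Aut (H ⋙ F'))) from ⟨σ, rfl⟩)) τ⁻¹)
    rwa [MulAction.mem_stabilizer_iff, mul_smul, mul_smul, inv_smul_eq_iff] at h1
  · intro h
    refine (Subgroup.closure_le _).2 ?_
    intro g hg
    obtain ⟨b, ⟨σ, rfl⟩, hconj⟩ := Group.mem_conjugatesOfSet_iff.1 hg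
    obtain ⟨c, rfl⟩ := isConj_iff.1 hconj
    show (c * Pi1X.autWhisker H F' σ * c⁻¹) • a = a
    rw [mul_smul, mul_smul, h, smul_inv_smul]

variable [PreservesFiniteLimits H] [PreservesFiniteColimits H]

theorem surjective_iff : Function.Surjective (Pi1X.autWhisker H F') ↔ (H.Full ∧ H.Faithful) := by
  constructor
  · intro hs
    haveI : H.Faithful := Functor.Faithful.of_comp H F'
    refine ⟨⟨fun {X Y} g => ?_⟩, inferInstance⟩
    let g' : (functorToAction (H ⋙ F')).obj X ⟶ (functorToAction (H ⋙ F')).obj Y :=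
      { hom := F'.map g
        comm := fun τ => by
          obtain ⟨σ, rfl⟩ := hs τ
          exact σ.hom.naturality g |>.symm }
    obtain ⟨f, hf⟩ := (functorToAction (H ⋙ F')).map_surjective g'
    refine ⟨f, F'.map_injective ?_⟩
    exact congrArg Action.Hom.hom hf
  · rintro ⟨hfull, hfaith⟩ k
    by_contra hk
    obtain ⟨X, a, hX, hR, hka⟩ := exists_stabilizer_separating (H ⋙ F') _ (isClosed_range H F')
      (k := k) (fun ⟨σ, hσ⟩ => hk ⟨σ, hσ⟩)
    obtain ⟨s, hs⟩ := (range_le_stabilizer_iff H F' X a).1 hR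
    obtain ⟨t⟩ := nonempty_top (H ⋙ F')
    let e := PreservesTerminal.iso H
    obtain ⟨f, hf⟩ := H.map_surjective (e.hom ≫ s)
    refine hka ?_
    have ha : (H ⋙ F').map f t = a := by
      show F'.map (H.map f) t = a
      rw [hf, F'.map_comp, FintypeCat.comp_apply]
      exact hs _
    rw [← ha]
    exact smul_section (H ⋙ F') f t k

/-- The kernel fixes a point iff a component of some image maps to the object. -/
theorem ker_le_stabilizer_iff (X' : C') [IsConnected X'] (a' : F'.obj X') :
    (Pi1X.autWhisker H F').ker ≤ MulAction.stabilizer (Aut F') a' ↔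
      ∃ (X : C) (Y' : C') (i : Y' ⟶ H.obj X) (q : Y' ⟶ X'), Mono i ∧ IsConnected Y' := by
  constructor
  · intro h
    let S : Set (Aut F') := MulAction.stabilizer (Aut F') a'
    have hK : IsCompact (Pi1X.autWhisker H F' '' Sᶜ) :=
      (stabilizer_isOpen (Aut F') a').isClosed_compl.isCompact.image (continuous_autWhisker H F')
    have h1 : (Pi1X.autWhisker H F' '' Sᶜ)ᶜ ∈ nhds (1 : Aut (H ⋙ F')) :=
      hK.isClosed.isOpen_compl.mem_nhds (by
        rintro ⟨σ, hσ, hσ1⟩
        exact hσ (h hσ1))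
    obtain ⟨X, z, -, hz⟩ := exists_stabilizer_subset (H ⋙ F') h1
    obtain ⟨Y', i, y, hi, hY', hy, hst⟩ := exists_component F' (show F'.obj (H.obj X) from z)
    haveI := hY'
    obtain ⟨q, -⟩ := exists_map_of_stabilizer_le F' y a' (by
      intro σ hσ
      rw [hst] at hσ
      by_contra hn
      exact hz (show Pi1X.autWhisker H F' σ ∈ MulAction.stabilizer (Aut (H ⋙ F')) z from hσ) ⟨σ, hn, rfl⟩)
    exact ⟨X, Y', i, q, hi, hY'⟩
  · rintro ⟨X, Y', i, q, hi, hY'⟩ σ hσ
    obtain ⟨y⟩ := nonempty_fiber_of_isConnected F' Y'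
    obtain ⟨τ, hτ⟩ := MulAction.exists_smul_eq (Aut F') (F'.map q y) a'
    have hinj : Function.Injective (F'.map i) :=
      (ConcreteCategory.mono_iff_injective_of_preservesPullback _).1 inferInstance
    have h1 : σ • (τ • y) = τ • y := hinj (by
      rw [← mulAction_naturality]
      show Pi1X.autWhisker H F' σ • (show (H ⋙ F').obj X from F'.map i (τ • y)) = _
      rw [MonoidHom.mem_ker.1 hσ, one_smul])
    show σ • a' = a'
    rw [← hτ, mulAction_naturality F' τ q y, mulAction_naturality F' σ q (τ • y), h1]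

theorem injective_iff : Function.Injective (Pi1X.autWhisker H F') ↔
    ∀ X' : C', IsConnected X' → ∃ (X : C) (Y' : C') (p : Y' ⟶ X') (q : Y' ⟶ H.obj X), Epi p ∧ Mono q := by
  constructor
  · intro h X' hX'
    obtain ⟨a'⟩ := nonempty_fiber_of_isConnected F' X'
    obtain ⟨X, Y', i, q, hi, hY'⟩ := (ker_le_stabilizer_iff H F' X' a').1
      (by rw [(MonoidHom.ker_eq_bot_iff _).2 h]; exact bot_le)
    haveI := nonempty_fiber_of_isConnected F' Y'
    exact ⟨X, Y', q, i, epi_of_nonempty_of_isConnected F' q, hi⟩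
  · intro h
    rw [← MonoidHom.ker_eq_bot_iff, Subgroup.eq_bot_iff_forall]
    intro σ hσ
    refine eq_one_of_forall_connected F' fun X' a' hX' => ?_
    obtain ⟨X, Y', p, q, hp, hq⟩ := h X' hX'
    obtain ⟨y, rfl⟩ := surjective_on_fiber_of_epi F' p a'
    have hinj : Function.Injective (F'.map q) :=
      (ConcreteCategory.mono_iff_injective_of_preservesPullback _).1 inferInstance
    rw [mulAction_naturality]
    refine congrArg (F'.map p) (hinj ?_)
    rw [← mulAction_naturality]
    show Pi1X.autWhisker H F' σ • (show (H ⋙ F').obj X from F'.map q y) = _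
    rw [MonoidHom.mem_ker.1 hσ, one_smul]

end Hom

end Groth.Agent.GaloisHom
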