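import Groth.Agent.GaloisHom.Basic

/-!
Exact sequences of fundamental groups.
-/

set_option autoImplicit false
set_option linter.style.haveILetI false
set_option backward.defeqAttrib.useBackward true
set_option backward.isDefEq.respectTransparency false

universe u v w

open CategoryTheory CategoryTheory.Limits CategoryTheory.PreGaloisCategory

namespace Groth.Agent.GaloisHom

variable {C C' C'' : Type u} [Category.{v} C] [Category.{v} C'] [Category.{v} C'']
  [GaloisCategory C] [GaloisCategory C'] [GaloisCategory C'']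
  (H : C ⥤ C') [PreservesFiniteLimits H] [PreservesFiniteColimits H]
  (H' : C' ⥤ C'') [PreservesFiniteLimits H'] [PreservesFiniteColimits H']
  (F'' : C'' ⥤ FintypeCat.{w}) [FiberFunctor F''] [FiberFunctor (H' ⋙ F'')] [FiberFunctor (H ⋙ (H' ⋙ F''))]

theorem ker_le_range_iff :
    (Pi1X.autWhisker H (H' ⋙ F'')).ker ≤ (Pi1X.autWhisker H' F'').range ↔
      ∀ (X' : C') (a' : (H' ⋙ F'').obj X'), IsConnected X' →
        (∃ s : ⊤_ C'' ⟶ H'.obj X', ∀ t : F''.obj (⊤_ C''), F''.map s t = a') →
          ∃ (X : C) (Y' : C') (i : Y' ⟶ H.obj X) (q : Y' ⟶ X'), Mono i ∧ IsConnected Y' := by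
  constructor
  · intro h X' a' hX' hs
    exact (ker_le_stabilizer_iff H (H' ⋙ F'') X' a').1 (h.trans ((range_le_stabilizer_iff H' F'' X' a').2 hs))
  · intro h k hk
    by_contra hn
    obtain ⟨X', a', hX', hR, hka⟩ := exists_stabilizer_separating (H' ⋙ F'') _ (isClosed_range H' F'') hn
    exact hka ((ker_le_stabilizer_iff H (H' ⋙ F'') X' a').2
      (h X' a' hX' ((range_le_stabilizer_iff H' F'' X' a').1 hR)) hk)

/-- A connected object killed by the kernel comes from the base. -/
theorem exists_iso_of_ker_le (hs : Function.Surjective (Pi1X.autWhisker H (H' ⋙ F''))) (X' : C') [IsConnected X']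
    (h : ∀ a' : (H' ⋙ F'').obj X', (Pi1X.autWhisker H (H' ⋙ F'')).ker ≤ MulAction.stabilizer (Aut (H' ⋙ F'')) a') :
    ∃ X : C, Nonempty (H.obj X ≅ X') := by
  let G' := H' ⋙ F''
  let π := Pi1X.autWhisker H G'
  obtain ⟨a'⟩ := nonempty_fiber_of_isConnected G' X'
  let U := MulAction.stabilizer (Aut G') a'
  have hq : Topology.IsQuotientMap π := Topology.IsQuotientMap.of_surjective_continuous hs (continuous_autWhisker H G')
  have hV : IsOpen ((U.map π : Subgroup (Aut (H ⋙ G'))) : Set (Aut (H ⋙ G'))) := by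
    rw [← hq.isOpen_preimage]
    have : π ⁻¹' (U.map π : Set (Aut (H ⋙ G'))) = U := by
      rw [← Subgroup.coe_comap, Subgroup.comap_map_eq_self (h a')]
    rw [this]
    exact stabilizer_isOpen (Aut G') a'
  obtain ⟨X, a, hX, ha⟩ := exists_connected_stabilizer_eq (H ⋙ G') ⟨U.map π, hV⟩
  have hst : ∀ σ : Aut G', σ • (show G'.obj (H.obj X) from a) = (show G'.obj (H.obj X) from a) ↔ σ • a' = a' := by
    intro σ
    have h1 : π σ • a = a ↔ π σ ∈ U.map π := by rw [← MulAction.mem_stabilizer_iff, ha]
    refine h1.trans ⟨fun hm => ?_, fun hm => ⟨σ, hm, rfl⟩⟩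
    have : σ ∈ (U.map π).comap π := hm
    rw [Subgroup.comap_map_eq_self (h a')] at this
    exact this
  obtain ⟨f, hf⟩ := exists_map_of_stabilizer_le G' (X := X') (Y := H.obj X) a' (show G'.obj (H.obj X) from a)
    fun σ hσ => (hst σ).2 hσ
  have hbij : Function.Bijective (G'.map f) := by
    constructor
    · intro x y hxy
      obtain ⟨σ, rfl⟩ := MulAction.exists_smul_eq (Aut G') a' x
      obtain ⟨τ, rfl⟩ := MulAction.exists_smul_eq (Aut G') a' y
      rw [← mulAction_naturality, ← mulAction_naturality, hf, ← inv_smul_eq_iff, ← mul_smul, hst, mul_smul,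
        inv_smul_eq_iff] at hxy
      exact hxy
    · intro x
      obtain ⟨k, hk⟩ := MulAction.exists_smul_eq (Aut (H ⋙ G')) a x
      obtain ⟨σ, rfl⟩ := hs k
      exact ⟨σ • a', by rw [← mulAction_naturality, hf]; exact hk⟩
  haveI : IsIso (G'.map f) := (ConcreteCategory.isIso_iff_bijective _).2 hbij
  haveI : IsIso f := isIso_of_reflects_iso f G'
  exact ⟨X, ⟨(asIso f).symm⟩⟩

theorem exact_iff :
    (Function.Surjective (Pi1X.autWhisker H (H' ⋙ F'')) ∧
      (∀ σ : Aut F'', Pi1X.autWhisker H (H' ⋙ F'') (Pi1X.autWhisker H' F'' σ) = 1) ∧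
      (Pi1X.autWhisker H (H' ⋙ F'')).ker = (Subgroup.normalClosure (Set.range (Pi1X.autWhisker H' F''))).topologicalClosure) ↔
    ((H.Full ∧ H.Faithful) ∧
      ∀ X' : C', (∃ X : C, Nonempty (H.obj X ≅ X')) ↔ ∃ n : ℕ, Nonempty (H'.obj X' ≅ ∐ fun _ : Fin n => ⊤_ C'')) := by
  let G' := H' ⋙ F''
  constructor
  · rintro ⟨hs, htriv, hker⟩
    refine ⟨(surjective_iff H G').1 hs, fun X' => ⟨?_, ?_⟩⟩
    · rintro ⟨X, ⟨e⟩⟩
      obtain ⟨n, ⟨f⟩⟩ := (trivial_iff H' F'' (H.obj X)).1 fun σ x => by
        show Pi1X.autWhisker H G' (Pi1X.autWhisker H' F'' σ) • (show (H ⋙ G').obj X from x) = x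
        rw [htriv, one_smul]
      exact ⟨n, ⟨(H'.mapIso e).symm ≪≫ f⟩⟩
    · intro hX'
      have htr := (trivial_iff H' F'' X').2 hX'
      have hfix : ∀ (k : Aut G') (x : G'.obj X'), k ∈ (Pi1X.autWhisker H G').ker → k • x = x := by
        intro k x hk
        rw [hker] at hk
        let N : Subgroup (Aut G') := ⨅ y : G'.obj X', MulAction.stabilizer (Aut G') y
        haveI : N.Normal := ⟨fun m hm g => Subgroup.mem_iInf.2 fun y => by
          rw [MulAction.mem_stabilizer_iff, mul_smul, mul_smul,
            MulAction.mem_stabilizer_iff.1 (Subgroup.mem_iInf.1 hm (g⁻¹ • y)), smul_inv_smul]⟩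
        have hNc : IsClosed (N : Set (Aut G')) := by
          rw [Subgroup.coe_iInf]
          exact isClosed_iInter fun y => Subgroup.isClosed_of_isOpen _ (stabilizer_isOpen (Aut G') y)
        have hle : (Subgroup.normalClosure (Set.range (Pi1X.autWhisker H' F''))).topologicalClosure ≤ N :=
          Subgroup.topologicalClosure_minimal _ (Subgroup.normalClosure_le_normal (by
            rintro _ ⟨σ, rfl⟩
            exact Subgroup.mem_iInf.2 fun y => htr σ y)) hNc
        exact Subgroup.mem_iInf.1 (hle hk) x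
      obtain ⟨ι, Xi, g, hg, hc, _⟩ := has_decomp_connected_components X'
      haveI := hc
      have hinj : ∀ i, Function.Injective (G'.map (Cofan.inj (Cofan.mk X' g) i)) := fun i => by
        haveI : Mono (g i) := MonoCoprod.mono_inj _ _ hg i
        exact (ConcreteCategory.mono_iff_injective_of_preservesPullback _).1 (inferInstanceAs (Mono (G'.map (g i))))
      choose Z hZ using fun i => exists_iso_of_ker_le H H' F'' hs (Xi i) fun a' k hk => hinj i (by
        rw [← mulAction_naturality]
        exact hfix k _ hk)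
      exact ⟨∐ Z, ⟨PreservesCoproduct.iso H Z ≪≫ Sigma.mapIso (fun i => (hZ i).some) ≪≫
        (coproductIsCoproduct Xi).coconePointUniqueUpToIso hg⟩⟩
  · rintro ⟨hff, hiff⟩
    have hs := (surjective_iff H G').2 hff
    have htriv : ∀ σ : Aut F'', Pi1X.autWhisker H G' (Pi1X.autWhisker H' F'' σ) = 1 := fun σ => by
      refine eq_one_of_forall_connected (H ⋙ G') fun X x _ => ?_
      exact (trivial_iff H' F'' (H.obj X)).2 ((hiff (H.obj X)).1 ⟨X, ⟨Iso.refl _⟩⟩) σ x
    refine ⟨hs, htriv, le_antisymm (fun k hk => ?_) ?_⟩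
    · by_contra hn
      obtain ⟨X', a', hX', hR, hka⟩ := exists_stabilizer_separating (H' ⋙ F'') _
        (Subgroup.isClosed_topologicalClosure _) hn
      have h1 : Subgroup.normalClosure ((Pi1X.autWhisker H' F'').range : Set (Aut G')) ≤
          MulAction.stabilizer (Aut G') a' := by
        rw [MonoidHom.coe_range]
        exact (Subgroup.le_topologicalClosure _).trans hR
      obtain ⟨X, ⟨e⟩⟩ := (hiff X').2 ((normalClosure_range_le_stabilizer_iff H' F'' X' a').1 h1)
      have hinj : Function.Injective (G'.map e.inv) := fun x y hxy => by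
        have := congrArg (G'.map e.hom) hxy
        simpa [← FintypeCat.comp_apply, ← G'.map_comp] using this
      refine hka (hinj ?_)
      rw [← mulAction_naturality]
      show Pi1X.autWhisker H G' k • (show (H ⋙ G').obj X from G'.map e.inv a') = _
      rw [MonoidHom.mem_ker.1 hk, one_smul]
    · refine Subgroup.topologicalClosure_minimal _ ?_ ?_
      · refine Subgroup.normalClosure_le_normal ?_
        rintro _ ⟨σ, rfl⟩
        exact htriv σ
      · show IsClosed ((Pi1X.autWhisker H G') ⁻¹' {1})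
        exact isClosed_singleton.preimage (continuous_autWhisker H G')

end Groth.Agent.GaloisHom
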