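import Groth.Agent.FiberUnique.Basic
import Mathlib.CategoryTheory.Limits.Types.Pullbacks
import Mathlib.CategoryTheory.Limits.Shapes.FiniteProducts
import Mathlib.CategoryTheory.Limits.Preserves.Finite
import Mathlib.CategoryTheory.Limits.FintypeCat
import Mathlib.CategoryTheory.Limits.Constructions.FiniteProductsOfBinaryProducts

/-!
A left exact functor preserving binary coproducts is the fibre functor.
-/

set_option autoImplicit false
set_option linter.style.haveILetI false
set_option backward.defeqAttrib.useBackward true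
set_option backward.isDefEq.respectTransparency false

universe u v w

open CategoryTheory CategoryTheory.Limits CategoryTheory.PreGaloisCategory

namespace Groth.Agent.GaloisHom.UniqueLex

variable {C : Type u} [Category.{v} C] [GaloisCategory C] (F : C ⥤ FintypeCat.{w}) [FiberFunctor F]
  (F' : C ⥤ FintypeCat.{w}) [PreservesFiniteLimits F']

/-- The fibre of the initial object is empty. -/
theorem isEmpty_initial [PreservesColimitsOfShape (Discrete WalkingPair) F'] : IsEmpty (F'.obj (⊥_ C)) := by
  refine ⟨fun z => ?_⟩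
  let c : BinaryCofan (⊥_ C) (⊥_ C) := BinaryCofan.mk (𝟙 _) (𝟙 _)
  have hc : IsColimit c := BinaryCofan.IsColimit.mk c (fun {T} _ _ => initial.to T)
    (fun _ _ => initial.hom_ext _ _) (fun _ _ => initial.hom_ext _ _) (fun _ _ _ _ _ => initial.hom_ext _ _)
  let G := F' ⋙ FintypeCat.incl
  have h : Nonempty (IsColimit (BinaryCofan.mk (G.map (𝟙 (⊥_ C))) (G.map (𝟙 (⊥_ C))))) :=
    ⟨mapIsColimitOfPreservesOfIsColimit G _ _ hc⟩
  rw [Types.binaryCofan_isColimit_iff] at h
  exact Set.disjoint_iff.1 h.2.2.disjoint ⟨⟨z, rfl⟩, ⟨z, rfl⟩⟩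

theorem preservesFiniteCoproducts [PreservesColimitsOfShape (Discrete WalkingPair) F'] :
    PreservesFiniteCoproducts F' := by
  haveI := isEmpty_initial F'
  haveI : PreservesColimitsOfShape (Discrete.{0} PEmpty) F' := by
    haveI : PreservesColimit (Functor.empty.{0} C) F' := preservesInitial_of_iso F' (initialIsInitial.uniqueUpToIso (IsInitial.ofUniqueHom
      (fun T => FintypeCat.homMk fun x => isEmptyElim x) fun T m => by ext x; exact isEmptyElim x))
    exact preservesColimitsOfShape_pempty_of_preservesInitial F'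
  exact ⟨fun n => PreservesFiniteCoproducts.of_preserves_binary_and_initial F' (Fin n)⟩

variable [PreservesFiniteCoproducts F'] (h : ∀ X : C, IsEmpty (F'.obj X) → Nonempty (IsInitial X))

include h

theorem nonempty_of_isConnected (A : C) [IsConnected A] : Nonempty (F'.obj A) :=
  not_isEmpty_iff.1 fun hA => IsConnected.notInitial (h A hA).some

/-- Sections over a Galois object with bijective evaluation. -/
theorem bijective_eval {X A : C} [IsGalois A] (a : F.obj A) (hb : Function.Bijective fun f : A ⟶ X => F.map f a)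
    (z : F'.obj A) : Function.Bijective fun f : A ⟶ X => F'.map f z := by
  classical
  haveI : Finite (A ⟶ X) := Finite.of_injective _ hb.1
  let φ : (∐ fun _ : (A ⟶ X) => A) ⟶ X ⨯ A := Sigma.desc fun f => prod.lift f (𝟙 A)
  have hev : ∀ b : F.obj A, Function.Bijective fun f : A ⟶ X => F.map f b := fun b => by
    obtain ⟨σ, hσ⟩ := MulAction.exists_smul_eq (Aut A) a b
    have : (fun f : A ⟶ X => F.map f b) = (fun f : A ⟶ X => F.map f a) ∘ (fun f => σ.hom ≫ f) := by
      funext f
      show F.map f b = F.map (σ.hom ≫ f) a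
      rw [F.map_comp, FintypeCat.comp_apply, ← hσ]
      rfl
    rw [this]
    exact hb.comp ⟨fun f g hfg => (cancel_epi σ.hom).1 hfg, fun f => ⟨σ.inv ≫ f, by simp⟩⟩
  have key : ∀ (E : C ⥤ FintypeCat.{w}) [PreservesFiniteLimits E] [PreservesFiniteCoproducts E],
      (∀ b, Function.Bijective fun f : A ⟶ X => E.map f b) ↔ Function.Bijective (E.map φ) := by
    intro E _ _
    have hι : ∀ f b, E.map φ (E.map (Sigma.ι (fun _ : (A ⟶ X) => A) f) b) = E.map (prod.lift f (𝟙 A)) b := fun f b => by
      rw [← FintypeCat.comp_apply, ← E.map_comp, Sigma.ι_desc]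
    have hp : ∀ y y' : E.obj (X ⨯ A), E.map prod.fst y = E.map prod.fst y' → E.map prod.snd y = E.map prod.snd y' →
        y = y' := fun y y' h1 h2 => by
      let c : E.obj (X ⨯ A) → (FintypeCat.of PUnit.{w + 1} ⟶ E.obj (X ⨯ A)) := fun t => FintypeCat.homMk fun _ => t
      have : c y = c y' := BinaryFan.IsLimit.hom_ext (mapIsLimitOfPreservesOfIsLimit E _ _ (prodIsProd X A))
        (by ext; exact h1) (by ext; exact h2)
      exact ConcreteCategory.congr_hom this PUnit.unit
    have hfst : ∀ (f : A ⟶ X) b, E.map prod.fst (E.map (prod.lift f (𝟙 A)) b) = E.map f b := fun f b => by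
      rw [← FintypeCat.comp_apply, ← E.map_comp, prod.lift_fst]
    have hsnd : ∀ (f : A ⟶ X) b, E.map prod.snd (E.map (prod.lift f (𝟙 A)) b) = b := fun f b => by
      rw [← FintypeCat.comp_apply, ← E.map_comp, prod.lift_snd, E.map_id]; rfl
    have hjs : ∀ w' : E.obj (∐ fun _ : (A ⟶ X) => A), ∃ f b, E.map (Sigma.ι (fun _ : (A ⟶ X) => A) f) b = w' := by
      intro w'
      haveI : Fintype (A ⟶ X) := Fintype.ofFinite _
      obtain ⟨⟨f⟩, b, hb'⟩ := Limits.FintypeCat.jointly_surjective _ _
        (isColimitOfPreserves E (coproductIsCoproduct fun _ : (A ⟶ X) => A)) w'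
      exact ⟨f, b, hb'⟩
    constructor
    · intro hE
      refine ⟨fun y y' hy => ?_, fun y => ?_⟩
      · obtain ⟨f, b, rfl⟩ := hjs y
        obtain ⟨g, c, rfl⟩ := hjs y'
        rw [hι, hι] at hy
        have h2 := congrArg (E.map prod.snd) hy
        rw [hsnd, hsnd] at h2
        subst h2
        have h1 := congrArg (E.map prod.fst) hy
        rw [hfst, hfst] at h1
        rw [(hE b).1 h1]
      · obtain ⟨f, hf⟩ := (hE (E.map prod.snd y)).2 (E.map prod.fst y)
        exact ⟨_, (hι f _).trans (hp _ _ ((hfst f _).trans hf) (hsnd f _))⟩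
    · intro hE b
      refine ⟨fun f g hfg => ?_, fun x => ?_⟩
      · have e := hp _ _ (((hfst f b).trans hfg).trans (hfst g b).symm) ((hsnd f b).trans (hsnd g b).symm)
        rw [← hι, ← hι] at e
        have e' := hE.1 e
        by_contra hne
        haveI : Fintype (A ⟶ X) := Fintype.ofFinite _
        let d : E.obj A → FintypeCat.of (ULift.{w} Bool) := fun _ => ⟨true⟩
        let d' : E.obj A → FintypeCat.of (ULift.{w} Bool) := fun _ => ⟨false⟩
        let cc : Cofan fun _ : (A ⟶ X) => E.obj A :=
          Cofan.mk (FintypeCat.of (ULift.{w} Bool)) fun k => FintypeCat.homMk (if k = f then d else d')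
        let hcol := isColimitCofanMkObjOfIsColimit E _ _ (coproductIsCoproduct fun _ : (A ⟶ X) => A)
        have hf' := ConcreteCategory.congr_hom (Cofan.IsColimit.fac hcol cc.inj f) b
        have hg' := ConcreteCategory.congr_hom (Cofan.IsColimit.fac hcol cc.inj g) b
        have heq : cc.inj f b = cc.inj g b :=
          hf'.symm.trans ((congrArg (Cofan.IsColimit.desc hcol cc.inj) e').trans hg')
        simp [cc, Ne.symm hne, d, d'] at heq
        exact Bool.noConfusion (congrArg ULift.down heq)
      · obtain ⟨s, hs⟩ : ∃ y : E.obj (X ⨯ A), E.map prod.fst y = x ∧ E.map prod.snd y = b := by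
          obtain ⟨l, hl₁, hl₂⟩ := BinaryFan.IsLimit.lift' (mapIsLimitOfPreservesOfIsLimit E _ _ (prodIsProd X A))
            (FintypeCat.homMk fun _ : FintypeCat.of PUnit.{w + 1} => x) (FintypeCat.homMk fun _ => b)
          exact ⟨l PUnit.unit, ConcreteCategory.congr_hom hl₁ PUnit.unit, ConcreteCategory.congr_hom hl₂ PUnit.unit⟩
        obtain ⟨w', rfl⟩ := hE.2 s
        obtain ⟨f, c, rfl⟩ := hjs w'
        rw [hι, hfst, hsnd] at hs
        obtain ⟨hs₁, rfl⟩ := hs
        exact ⟨f, hs₁⟩
  haveI : IsIso (F.map φ) := (ConcreteCategory.isIso_iff_bijective _).2 ((key F).1 hev)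
  haveI : IsIso φ := isIso_of_reflects_iso φ F
  exact (key F').2 ((ConcreteCategory.isIso_iff_bijective _).1 (inferInstanceAs (IsIso (F'.map φ)))) z

theorem nonempty_iso : Nonempty (F' ≅ F) := by
  classical
  haveI := FiberUnique.cofiltered F
  let S : PointedGaloisObject F ⥤ Type w := PointedGaloisObject.incl F ⋙ F' ⋙ FintypeCat.incl
  haveI : ∀ A, Finite (S.obj A) := fun A => inferInstanceAs (Finite (F'.obj A.obj))
  haveI : ∀ A, Nonempty (S.obj A) := fun A => nonempty_of_isConnected F' h A.obj
  obtain ⟨s, hs⟩ := nonempty_sections_of_finite_cofiltered_system S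
  have rep : ∀ X : C, ∃ A : PointedGaloisObject F, Function.Bijective fun f : A.obj ⟶ X => F.map f A.pt := by
    intro X
    obtain ⟨A, a, hA, hb⟩ := exists_galois_representative F X
    exact ⟨⟨A, a, hA⟩, hb⟩
  choose A hA using rep
  let t : ∀ X : C, F.obj X ≃ F'.obj X := fun X =>
    (Equiv.ofBijective _ (hA X)).symm.trans
      (Equiv.ofBijective _ (bijective_eval F F' h (A X).pt (hA X) (s (A X))))
  have ht : ∀ (X : C) (B : PointedGaloisObject F) (g : B.obj ⟶ X) (x : F.obj X),
      F.map g B.pt = x → F'.map g (s B) = t X x := by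
    intro X B g x hg
    let f := (Equiv.ofBijective _ (hA X)).symm x
    have hf : F.map f (A X).pt = x := (Equiv.ofBijective _ (hA X)).apply_symm_apply x
    obtain ⟨Z, a, b, -⟩ := IsCofilteredOrEmpty.cone_objs B (A X)
    have e : a.val ≫ g = b.val ≫ f := by
      apply evaluation_injective_of_isConnected F Z.obj X Z.pt
      simp [a.comp, b.comp, hg, hf]
    have ha : F'.map a.val (s Z) = s B := hs a
    have hb : F'.map b.val (s Z) = s (A X) := hs b
    show F'.map g (s B) = F'.map f (s (A X))
    rw [← ha, ← hb, ← FintypeCat.comp_apply, ← F'.map_comp, e, F'.map_comp, FintypeCat.comp_apply]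
  refine ⟨(NatIso.ofComponents (fun X => FintypeCat.equivEquivIso (t X)) fun {X Y} g => ?_).symm⟩
  ext x
  show t Y (F.map g x) = F'.map g (t X x)
  let f := (Equiv.ofBijective _ (hA X)).symm x
  have hf : F.map f (A X).pt = x := (Equiv.ofBijective _ (hA X)).apply_symm_apply x
  rw [← ht Y (A X) (f ≫ g) (F.map g x) (by simp [hf]), ← ht X (A X) f x hf]
  simp

end Groth.Agent.GaloisHom.UniqueLex
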